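import Cfsg.Agent.Lib.PLength85.SchmidtSylow
import Cfsg.Agent.Lib.HallHigman.Setup
import Cfsg.Agent.Lib.HallHigman.PLength
import Cfsg.Agent.Lib.Coprime.HyperplaneGeneration
import Cfsg.Agent.Lib.Transfer.QuadraticAction

/-!
A `p`-solvable group whose Sylow `p`-subgroups are Schmidt Sylow subgroups has `p`-length at most one.
-/

set_option autoImplicit false
set_option linter.style.haveILetI false
set_option linter.unusedSectionVars false

open scoped commutatorElement

namespace CfsgLib.PLength85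

open Cfsg

universe u

variable {p : ℕ} [hp : Fact p.Prime]

/-- With trivial `O_{p'}`, the Sylow `p`-subgroup is normal. -/
theorem sylow_le_pCore {H : Type u} [Group H] [Finite H] (hH : IsPSolvable p H)
    (h0 : pPrimeCore p H = ⊥) (P : Sylow p H) (D : SchmidtAut p ↥(P : Subgroup H)) :
    (P : Subgroup H) ≤ pCore p H := by
  classical
  set S := (P : Subgroup H) with hSdef
  set R := pCore p H with hRdef
  by_contra hSR
  have hSp : IsPGroup p S := P.isPGroup'
  have hRS : R ≤ S := CfsgLib.PCore.pCore_le_sylow P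
  have hCR : Subgroup.centralizer (R : Set H) ≤ R := CfsgLib.PCore.centralizer_pCore_le hH h0
  -- facts about `S`
  have hcomm : ∀ x ∈ S, ∀ y ∈ S, ∀ z ∈ S, z * ⁅x, y⁆ = ⁅x, y⁆ * z := fun x hx y hy z hz =>
    congrArg Subtype.val
      (Subgroup.mem_center_iff.1 (D.commutator_mem_center hSp ⟨x, hx⟩ ⟨y, hy⟩) ⟨z, hz⟩)
  have hcentR : ∀ c : S, c ∈ Subgroup.center S → (c : H) ∈ R := fun c hc =>
    hCR (Subgroup.mem_centralizer_iff.2 fun r hr =>
      congrArg Subtype.val (Subgroup.mem_center_iff.1 hc ⟨r, hRS hr⟩))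
  have hcomR : ∀ x ∈ S, ∀ y ∈ S, ⁅x, y⁆ ∈ R := fun x hx y hy =>
    hcentR _ (D.commutator_mem_center hSp ⟨x, hx⟩ ⟨y, hy⟩)
  have hpowR : ∀ x ∈ S, x ^ p ∈ R := fun x hx => hcentR _ (D.pow_mem_center hSp ⟨x, hx⟩)
  have hE2 : ∀ x : S, x ∉ Subgroup.center S → ∀ y ∈ S, ∀ z ∈ S, ∃ w ∈ S, ⁅(x : H), w⁆ = ⁅y, z⁆ := by
    intro x hx y hy z hz
    obtain ⟨w, hw⟩ := D.exists_commutator_eq hSp hx ⟨y, hy⟩ ⟨z, hz⟩
    exact ⟨w, w.2, congrArg Subtype.val hw⟩
  -- the quotient by the Frattini subgroup of `R`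
  obtain ⟨hWc, hWp, hCW⟩ := CfsgLib.HallHigman.frattini_quotient_props hH h0
  set Φ := CfsgLib.HallHigman.frattiniCore p H with hΦdef
  have hΦR : Φ ≤ R := CfsgLib.HallHigman.frattiniCore_le p H
  set f := QuotientGroup.mk' Φ with hf
  have hfs : Function.Surjective f := QuotientGroup.mk'_surjective Φ
  set W := R.map f with hW
  haveI hRn : R.Normal := inferInstance
  haveI hWn : W.Normal := hRn.map f hfs
  set π := QuotientGroup.mk' (Subgroup.centralizer (W : Set (H ⧸ Φ))) with hπ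
  have hπs : Function.Surjective π := QuotientGroup.mk'_surjective _
  have hπker : ∀ a, π a = 1 ↔ a ∈ W := fun a => by
    rw [hπ, QuotientGroup.mk'_apply, QuotientGroup.eq_one_iff, hCW]
  set φ := π.comp f with hφ
  have hφs : Function.Surjective φ := hπs.comp hfs
  have hφker : φ.ker = R := by
    ext x
    rw [MonoidHom.mem_ker, hφ, MonoidHom.comp_apply, hπker, ← Subgroup.mem_comap, hW,
      Subgroup.comap_map_eq, hf, QuotientGroup.ker_mk', sup_eq_left.2 hΦR]
  set K := (H ⧸ Φ) ⧸ Subgroup.centralizer (W : Set (H ⧸ Φ))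
  have hKsolv : IsPSolvable p K := CfsgLib.PCore.isPSolvable_of_surjective φ hφs hH
  have hKcore : pCore p K = ⊥ := by
    have hle : (pCore p K).comap φ ≤ R := CfsgLib.PCore.le_pCore inferInstance
      (CfsgLib.PCore.pCore_isPGroup.comap_of_ker_isPGroup φ
        (hφker.symm ▸ CfsgLib.PCore.pCore_isPGroup))
    rw [← Subgroup.map_comap_eq_self_of_surjective hφs (pCore p K), Subgroup.map_eq_bot_iff, hφker]
    exact hle
  set H0 := pPrimeCore p K with hH0
  haveI hH0n : H0.Normal := inferInstance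
  have hH0c : Subgroup.centralizer (H0 : Set K) ≤ H0 :=
    CfsgLib.HallHigman.centralizer_pPrimeCore_le hKsolv hKcore
  have hH0p : (Nat.card H0).Coprime p := CfsgLib.PCore.pPrimeCore_coprime
  -- the image of the Sylow subgroup
  set A := S.map φ with hA
  have hAel : IsElementaryAbelian p A := by
    refine ⟨⟨⟨?_⟩⟩, ?_⟩
    · rintro ⟨_, a, ha, rfl⟩ ⟨_, b, hb, rfl⟩
      apply Subtype.ext
      show φ a * φ b = φ b * φ a
      rw [← commutatorElement_eq_one_iff_mul_comm, ← map_commutatorElement, ← MonoidHom.mem_ker, hφker]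
      exact hcomR a ha b hb
    · rintro _ ⟨a, ha, rfl⟩
      rw [← map_pow, ← MonoidHom.mem_ker, hφker]
      exact hpowR a ha
  have hA1 : A ≠ ⊥ := by
    rw [hA, Ne, Subgroup.map_eq_bot_iff, hφker]; exact hSR
  have hAp : IsPGroup p A := fun a => ⟨1, Subtype.ext (by simpa using hAel.2 a a.2)⟩
  have finish : ¬ A ≤ Subgroup.centralizer (H0 : Set K) := by
    intro h
    exact hA1 (CfsgLib.PCore.eq_bot_of_isPGroup_coprime hAp
      (hH0p.coprime_dvd_left (Subgroup.card_dvd_of_le (h.trans hH0c))))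
  -- the stabiliser argument
  have stab : ∀ U : Subgroup (H ⧸ Φ), U ≤ W → (∀ s ∈ S, ∀ u ∈ U, f s * u = u * f s) →
      (∀ s ∈ S, ∀ w ∈ W, ⁅f s, w⁆ ∈ U) →
      ¬ H0 ≤ (Subgroup.normalizer (U : Set (H ⧸ Φ))).map π := by
    intro U hUW hU1 hU2 hN
    refine finish ?_
    rintro _ ⟨s, hs, rfl⟩
    refine Subgroup.mem_centralizer_iff.2 fun h hh => ?_
    obtain ⟨g, hg, rfl⟩ := hN hh
    show π g * π (f s) = π (f s) * π g
    rw [← commutatorElement_eq_one_iff_mul_comm, ← map_commutatorElement]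
    set x := ⁅g, f s⁆ with hx
    -- `x` stabilises the series
    have hconjU : ∀ u ∈ U, x * u * x⁻¹ = u := by
      intro u hu
      have h1 : g⁻¹ * u * g ∈ U := by
        convert CfsgLib.Coprime.mem_normalizer_conj (inv_mem hg) hu using 1
        group
      have e1 : (f s)⁻¹ * u * f s = u := by rw [mul_assoc, ← hU1 s hs u hu, inv_mul_cancel_left]
      have e2 : f s * (g⁻¹ * u * g) * (f s)⁻¹ = g⁻¹ * u * g := by
        rw [hU1 s hs _ h1, mul_inv_cancel_right]
      calc x * u * x⁻¹ = g * (f s * (g⁻¹ * ((f s)⁻¹ * u * f s) * g) * (f s)⁻¹) * g⁻¹ := by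
            rw [hx, commutatorElement_def]; group
        _ = u := by rw [e1, e2]; group
    have hWW : ∀ a : H ⧸ Φ, ∀ w ∈ W, a * w * a⁻¹ ∈ W := fun a w hw => hWn.conj_mem w hw a
    have hstabW : ∀ w ∈ W, ⁅x, w⁆ ∈ U := by
      intro w hw
      -- conjugation by `x` is trivial modulo `U`
      have hrel : ∀ v ∈ W, ∀ v' ∈ W, v⁻¹ * v' ∈ U →
          ∀ v'' ∈ W, v'⁻¹ * v'' ∈ U → v⁻¹ * v'' ∈ U := by
        intro v _ v' _ h1 v'' _ h2
        simpa [mul_assoc] using mul_mem h1 h2
      have hs1 : ∀ v ∈ W, v⁻¹ * (f s * v * (f s)⁻¹) ∈ U := by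
        intro v hv
        have h := hU2 s hs v hv
        rw [commutatorElement_def] at h
        have hc := hWc v hv _ (hWn.conj_mem v hv (f s))
        have e : v⁻¹ * (f s * v * (f s)⁻¹) = f s * v * (f s)⁻¹ * v⁻¹ := by
          rw [hWc _ (inv_mem hv) _ (hWn.conj_mem v hv (f s))]
        rw [e]; exact h
      have hg1 : ∀ v v' : H ⧸ Φ, v⁻¹ * v' ∈ U → (g * v * g⁻¹)⁻¹ * (g * v' * g⁻¹) ∈ U := by
        intro v v' h
        have := CfsgLib.Coprime.mem_normalizer_conj hg h
        have e : (g * v * g⁻¹)⁻¹ * (g * v' * g⁻¹) = g * (v⁻¹ * v') * g⁻¹ := by group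
        rwa [e]
      -- `s⁻¹`, then `g⁻¹`, `s`, `g`
      have hsi : ((f s)⁻¹ * w * f s)⁻¹ * w ∈ U := by
        have hv : (f s)⁻¹ * w * f s ∈ W := by
          convert hWW (f s)⁻¹ w hw using 1
          group
        have := hs1 _ hv
        have e : f s * ((f s)⁻¹ * w * f s) * (f s)⁻¹ = w := by group
        rwa [e] at this
      set v1 := (f s)⁻¹ * w * f s with hv1
      have hv1W : v1 ∈ W := by
        convert hWW (f s)⁻¹ w hw using 1
        rw [hv1]; group
      set v2 := g⁻¹ * v1 * g with hv2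
      have hv2W : v2 ∈ W := by
        convert hWW g⁻¹ v1 hv1W using 1
        rw [hv2]; group
      set v3 := f s * v2 * (f s)⁻¹ with hv3
      have hv3W : v3 ∈ W := hWW _ _ hv2W
      have h3 : (g * v2 * g⁻¹)⁻¹ * (g * v3 * g⁻¹) ∈ U := hg1 _ _ (hs1 _ hv2W)
      have e2 : g * v2 * g⁻¹ = v1 := by rw [hv2]; group
      rw [e2] at h3
      have h4 : (w)⁻¹ * (g * v3 * g⁻¹) ∈ U := by
        refine hrel w hw v1 hv1W ?_ _ (hWW _ _ hv3W) h3
        have := inv_mem hsi
        convert this using 1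
        group
      have e3 : g * v3 * g⁻¹ = x * w * x⁻¹ := by
        rw [hv3, hv2, hv1, hx, commutatorElement_def]; group
      rw [e3, hWc _ (inv_mem hw) _ (hWW x w hw)] at h4
      rwa [commutatorElement_def]
    have hxp : x ^ p ∈ W := by
      rw [← hCW]
      refine Subgroup.mem_centralizer_iff.2 fun w hw => ?_
      have hu := hstabW w hw
      set c := ⁅x, w⁆ with hc
      have hxw : x * w * x⁻¹ = c * w := by rw [hc, commutatorElement_def]; group
      have hpow : ∀ n : ℕ, x ^ n * w * (x ^ n)⁻¹ = c ^ n * w := by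
        intro n
        induction n with
        | zero => simp
        | succ n ih =>
          calc x ^ (n + 1) * w * (x ^ (n + 1))⁻¹ = x * (x ^ n * w * (x ^ n)⁻¹) * x⁻¹ := by
                rw [pow_succ']; group
            _ = x * (c ^ n * w) * x⁻¹ := by rw [ih]
            _ = (x * c ^ n * x⁻¹) * (x * w * x⁻¹) := by group
            _ = c ^ (n + 1) * w := by
                rw [hconjU _ (pow_mem hu n), hxw, ← mul_assoc, ← pow_succ]
      have h := hpow p
      rw [hWp c (hUW hu), one_mul, mul_inv_eq_iff_eq_mul] at h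
      exact h.symm
    -- `π x` is a `p`-element of a `p'`-group
    have hxH0 : π x ∈ H0 := by
      rw [hx, map_commutatorElement, commutatorElement_def, mul_assoc, mul_assoc]
      refine mul_mem hh ?_
      have := hH0n.conj_mem _ (inv_mem hh) (π (f s))
      simpa only [mul_assoc] using this
    have h1 : π x ^ p = 1 := by rw [← map_pow]; exact (hπker _).2 hxp
    have h2 : π x ^ Nat.card H0 = 1 := by
      have := congrArg Subtype.val (pow_card_eq_one' (x := (⟨π x, hxH0⟩ : H0)))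
      rwa [Subgroup.coe_pow, Subgroup.coe_one] at this
    have := pow_gcd_eq_one.2 (show π x ^ Nat.card H0 = 1 ∧ π x ^ p = 1 from ⟨h2, h1⟩)
    rwa [hH0p.gcd_eq_one, pow_one] at this
  have hAnorm : A ≤ Subgroup.normalizer (H0 : Set K) :=
    le_top.trans (Subgroup.normalizer_eq_top H0).ge
  have hgen := CfsgLib.Coprime39.eq_hyperCent hAel hA1 hH0p hAnorm
  -- lifting centralizers of hyperplanes
  have hlift : ∀ U : Subgroup (H ⧸ Φ),
      (∀ B : Subgroup K, B ≤ A → B.relIndex A = p → ∀ g : H ⧸ Φ,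
        (∀ s ∈ S, φ s ∈ B → g * f s * g⁻¹ * (f s)⁻¹ ∈ W) →
        g ∈ Subgroup.normalizer (U : Set (H ⧸ Φ))) →
      H0 ≤ (Subgroup.normalizer (U : Set (H ⧸ Φ))).map π := by
    intro U h
    rw [← hgen]
    refine iSup_le fun B => ?_
    rintro k ⟨-, hk⟩
    obtain ⟨g, rfl⟩ := hπs k
    refine ⟨g, h B B.2.1 B.2.2 g fun s hs hsB => ?_, rfl⟩
    rw [← hπker, map_mul, map_mul, map_mul, map_inv, map_inv, mul_inv_eq_one, mul_inv_eq_iff_eq_mul]
    exact (Subgroup.mem_centralizer_iff.1 hk (φ s) hsB).symm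
  -- the derived subgroup
  set E := (⁅S, S⁆ : Subgroup H).map f with hE
  have hEW : E ≤ W := Subgroup.map_mono ((Subgroup.commutator_le).2 hcomR)
  have hEc : ∀ s ∈ S, ∀ u ∈ E, f s * u = u * f s := by
    rintro s hs _ ⟨c, hc, rfl⟩
    have hle : ⁅S, S⁆ ≤ Subgroup.centralizer ({s} : Set H) := Subgroup.commutator_le.2
      fun x hx y hy => Subgroup.mem_centralizer_singleton_iff.2 (hcomm x hx y hy s hs).symm
    rw [← map_mul, ← map_mul, Subgroup.mem_centralizer_singleton_iff.1 (hle hc)]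
  have hEmem : ∀ x ∈ S, ∀ y ∈ S, ⁅f x, f y⁆ ∈ E := fun x hx y hy =>
    ⟨⁅x, y⁆, Subgroup.commutator_mem_commutator hx hy, map_commutatorElement f x y⟩
  have hE_of : ∀ x : S, x ∉ Subgroup.center S → (∀ y ∈ S, f ⁅(x : H), y⁆ = 1) → E = ⊥ := by
    intro x hx hy
    rw [hE, Subgroup.map_eq_bot_iff, Subgroup.commutator_le]
    intro a ha b hb
    obtain ⟨w, hw, he⟩ := hE2 x hx a ha b hb
    rw [MonoidHom.mem_ker, ← he, hy w hw]
  -- an element moving `W`
  have hmove : ∀ s ∈ S, φ s ≠ 1 → ∃ r ∈ R, f ⁅r, s⁆ ≠ 1 := by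
    intro s hs hs1
    by_contra! hall
    refine hs1 ?_
    show π (f s) = 1
    rw [hπker, ← hCW]
    refine Subgroup.mem_centralizer_iff.2 ?_
    rintro _ ⟨r, hr, rfl⟩
    rw [← commutatorElement_eq_one_iff_mul_comm, ← map_commutatorElement]
    exact hall r hr
  obtain ⟨_, ⟨s₁, hs₁, rfl⟩, hs₁1⟩ := A.bot_or_exists_ne_one.resolve_left hA1
  have hE1 : E ≠ ⊥ := by
    intro h
    obtain ⟨r, hr, hne⟩ := hmove s₁ hs₁ hs₁1
    have hm : f ⁅r, s₁⁆ ∈ E := by rw [map_commutatorElement]; exact hEmem r (hRS hr) s₁ hs₁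
    rw [h, Subgroup.mem_bot] at hm
    exact hne hm
  have hEexp : ∀ u ∈ E, u ^ p = 1 := fun u hu => hWp u (hEW hu)
  have hEp : IsPGroup p E := fun u => ⟨1, Subtype.ext (by simpa using hEexp u u.2)⟩
  by_cases hEcard : Nat.card E = p
  swap
  · -- large derived subgroup
    set U := W ⊓ Subgroup.centralizer ((S.map f : Subgroup (H ⧸ Φ)) : Set (H ⧸ Φ)) with hU
    refine stab U inf_le_left ?_ ?_ (hlift U ?_)
    · rintro s hs u ⟨-, hu⟩
      exact Subgroup.mem_centralizer_iff.1 hu (f s) ⟨s, hs, rfl⟩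
    · intro s hs w hw
      obtain ⟨r, hr, rfl⟩ := hw
      refine ⟨hEW (hEmem s hs r (hRS hr)), Subgroup.mem_centralizer_iff.2 ?_⟩
      rintro _ ⟨t, ht, rfl⟩
      exact hEc t ht _ (hEmem s hs r (hRS hr))
    intro B hBA hBi g hg
    have hkey : ∀ w ∈ W, (∀ s ∈ S, φ s ∈ B → f s * w = w * f s) → w ∈ U := by
      rintro _ ⟨r, hr, rfl⟩ hcen
      refine ⟨⟨r, hr, rfl⟩, Subgroup.mem_centralizer_iff.2 ?_⟩
      by_contra hne
      have hrc : (⟨r, hRS hr⟩ : S) ∉ Subgroup.center S := fun h => hne fun m hm => by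
        obtain ⟨t, ht, rfl⟩ := hm
        rw [← map_mul, ← map_mul]
        exact congrArg f (congrArg Subtype.val (Subgroup.mem_center_iff.1 h ⟨t, ht⟩))
      -- the commutator map of `r`
      let ψ : S →* H ⧸ Φ :=
        { toFun := fun t => f ⁅r, (t : H)⁆
          map_one' := by rw [Subgroup.coe_one, commutatorElement_one_right, map_one]
          map_mul' := fun t t' => by
            rw [← map_mul, Subgroup.coe_mul]
            congr 1
            have h := hcomm r (hRS hr) t' t'.2 t t.2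
            calc ⁅r, (t : H) * t'⁆ = ⁅r, (t : H)⁆ * (t * ⁅r, (t' : H)⁆ * (t : H)⁻¹) := by
                  simp [commutatorElement_def, mul_assoc]
              _ = ⁅r, (t : H)⁆ * ⁅r, (t' : H)⁆ := by rw [h, mul_inv_cancel_right] }
      have hrange : E ≤ ψ.range := by
        rw [hE, Subgroup.map_le_iff_le_comap, Subgroup.commutator_le]
        intro a ha b hb
        obtain ⟨w, hw, he⟩ := hE2 ⟨r, hRS hr⟩ hrc a ha b hb
        exact ⟨⟨w, hw⟩, congrArg f he⟩
      have hT : (B.comap φ).subgroupOf S ≤ ψ.ker := by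
        intro t ht
        show f ⁅r, (t : H)⁆ = 1
        rw [map_commutatorElement, commutatorElement_eq_one_iff_mul_comm]
        exact (hcen t t.2 ht).symm
      have h1 : ψ.ker.index ∣ p := by
        refine (Subgroup.index_dvd_of_le hT).trans (dvd_of_eq ?_)
        change (B.comap φ).relIndex S = p
        rw [Subgroup.relIndex_comap, ← hA, hBi]
      rw [Subgroup.index_ker] at h1
      obtain ⟨k, hk⟩ := IsPGroup.iff_card.1 hEp
      have h2 : Nat.card E ∣ p := (Subgroup.card_dvd_of_le hrange).trans h1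
      rcases (Nat.dvd_prime hp.out).1 h2 with h | h
      · exact hE1 (Subgroup.card_eq_one.1 h)
      · exact hEcard h
    refine CfsgLib.Coprime.mem_normalizer_of_forall_conj ?_
    rintro w ⟨hw, hwc⟩
    refine hkey _ (hWn.conj_mem w hw g) fun s hs hsB => ?_
    set v := g * f s * g⁻¹ * (f s)⁻¹ with hv
    have hvW : v ∈ W := hg s hs hsB
    have h1 : f s * w = w * f s := Subgroup.mem_centralizer_iff.1 hwc (f s) ⟨s, hs, rfl⟩
    have hgw := hWn.conj_mem w hw g
    have h2 : v * f s * (g * w * g⁻¹) = g * w * g⁻¹ * (v * f s) := by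
      calc v * f s * (g * w * g⁻¹) = g * (f s * w) * g⁻¹ := by rw [hv]; group
        _ = g * (w * f s) * g⁻¹ := by rw [h1]
        _ = g * w * g⁻¹ * (v * f s) := by rw [hv]; group
    refine mul_left_cancel (a := v) ?_
    calc v * (f s * (g * w * g⁻¹)) = v * f s * (g * w * g⁻¹) := (mul_assoc _ _ _).symm
      _ = g * w * g⁻¹ * (v * f s) := h2
      _ = g * w * g⁻¹ * v * f s := (mul_assoc _ _ _).symm
      _ = v * (g * w * g⁻¹) * f s := by rw [hWc _ hgw v hvW]
      _ = v * (g * w * g⁻¹ * f s) := mul_assoc _ _ _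
  -- derived subgroup of order `p`
  by_cases hAcard : Nat.card A = p
  swap
  · refine stab E hEW hEc (fun s hs w hw => ?_) (hlift E ?_)
    · obtain ⟨r, hr, rfl⟩ := hw
      exact hEmem s hs r (hRS hr)
    intro B hBA hBi g hg
    have hB1 : B ≠ ⊥ := fun h => hAcard (by rw [h, Subgroup.relIndex_bot_left] at hBi; exact hBi)
    obtain ⟨b, hb, hb1⟩ := B.bot_or_exists_ne_one.resolve_left hB1
    obtain ⟨s, hs, rfl⟩ := hBA hb
    obtain ⟨r, hr, hne⟩ := hmove s hs hb1
    have hcE : f ⁅r, s⁆ ∈ E := by rw [map_commutatorElement]; exact hEmem r (hRS hr) s hs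
    have hEgen : E = Subgroup.zpowers (f ⁅r, s⁆) := by
      refine (Subgroup.eq_of_le_of_card_ge (Subgroup.zpowers_le.2 hcE) ?_).symm
      rw [hEcard, Nat.card_zpowers, orderOf_eq_prime (hEexp _ hcE) hne]
    have hc : g * f ⁅r, s⁆ * g⁻¹ ∈ E := by
      set v := g * f s * g⁻¹ * (f s)⁻¹ with hv
      have hvW : v ∈ W := hg s hs hb
      have hw'' : g * f r * g⁻¹ ∈ W := hWn.conj_mem _ ⟨r, hr, rfl⟩ g
      set a := g * f r * g⁻¹ with ha
      have e : g * f ⁅r, s⁆ * g⁻¹ = ⁅a, v * f s⁆ := by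
        rw [map_commutatorElement, ha, hv, commutatorElement_def, commutatorElement_def]; group
      have e2 : ⁅a, v * f s⁆ = ⁅a, v⁆ * (v * ⁅a, f s⁆ * v⁻¹) := by
        simp [commutatorElement_def, mul_assoc]
      obtain ⟨r', hr', hra⟩ := hw''
      have hcE' : ⁅a, f s⁆ ∈ E := hra ▸ hEmem r' (hRS hr') s hs
      rw [e, e2, commutatorElement_eq_one_iff_mul_comm.2 (hWc a (hra ▸ ⟨r', hr', rfl⟩) v hvW), one_mul,
        hWc v hvW _ (hEW hcE'), mul_inv_cancel_right]
      exact hcE'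
    refine CfsgLib.Coprime.mem_normalizer_of_forall_conj fun u hu => ?_
    rw [hEgen] at hu
    obtain ⟨i, rfl⟩ := hu
    rw [← conj_zpow]
    exact Subgroup.zpow_mem _ hc i
  -- `|A| = |E| = p`
  have hAgen : ∀ t ∈ S, ∃ i : ℤ, ∃ r ∈ R, t = r * s₁ ^ i := by
    intro t ht
    have hz : Subgroup.zpowers (φ s₁) = A := by
      refine Subgroup.eq_of_le_of_card_ge (Subgroup.zpowers_le.2 ⟨s₁, hs₁, rfl⟩) ?_
      rw [hAcard, Nat.card_zpowers, orderOf_eq_prime (hAel.2 _ ⟨s₁, hs₁, rfl⟩) hs₁1]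
    obtain ⟨i, hi⟩ : φ t ∈ Subgroup.zpowers (φ s₁) := hz.ge ⟨t, ht, rfl⟩
    refine ⟨i, t * (s₁ ^ i)⁻¹, ?_, (inv_mul_cancel_right _ _).symm⟩
    rw [← hφker, MonoidHom.mem_ker, map_mul, map_inv, map_zpow]
    exact mul_inv_eq_one.2 hi.symm
  set Z := Subgroup.center S with hZ
  set R' := R.subgroupOf S with hR'
  have hZR' : Z ≤ R' := fun c hc => hcentR c hc
  have hR'i : R'.index = p := by
    change R.relIndex S = p
    rw [← hφker, Subgroup.relIndex_ker, ← hA, hAcard]
  let ψ : R' →* H ⧸ Φ :=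
    { toFun := fun t => f ⁅((t : S) : H), s₁⁆
      map_one' := by simp
      map_mul' := fun t t' => by
        rw [← map_mul, Subgroup.coe_mul, Subgroup.coe_mul]
        congr 1
        have h1 := hcomm _ (t' : S).2 s₁ hs₁ _ (t : S).2
        have h2 := hcomm _ (t' : S).2 s₁ hs₁ ⁅((t : S) : H), s₁⁆ (hRS (hcomR _ (t : S).2 s₁ hs₁))
        calc ⁅((t : S) : H) * (t' : S), s₁⁆ =
              (t : S) * ⁅((t' : S) : H), s₁⁆ * ((t : S) : H)⁻¹ * ⁅((t : S) : H), s₁⁆ := by
              simp [commutatorElement_def, mul_assoc]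
          _ = ⁅((t : S) : H), s₁⁆ * ⁅((t' : S) : H), s₁⁆ := by rw [h1, mul_inv_cancel_right, h2] }
  have hker : ψ.ker ≤ Z.subgroupOf R' := by
    intro t ht
    have ht' : f ⁅((t : S) : H), s₁⁆ = 1 := ht
    rw [map_commutatorElement, commutatorElement_eq_one_iff_mul_comm] at ht'
    by_contra hz
    refine hE1 (hE_of (t : S) hz fun y hy => ?_)
    obtain ⟨i, r, hr, rfl⟩ := hAgen y hy
    rw [map_commutatorElement, commutatorElement_eq_one_iff_mul_comm, map_mul, map_zpow]
    exact ((show Commute (f (t : S)) (f r) from hWc _ ⟨_, t.2, rfl⟩ _ ⟨r, hr, rfl⟩).mul_right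
      ((show Commute (f (t : S)) (f s₁) from ht').zpow_right i)).eq
  have hrel : Z.relIndex R' = p := by
    have hd : Z.relIndex R' ∣ p := by
      refine (Subgroup.index_dvd_of_le hker).trans ?_
      rw [Subgroup.index_ker]
      refine (Subgroup.card_dvd_of_le ?_).trans (dvd_of_eq hEcard)
      rintro _ ⟨t, rfl⟩
      show f ⁅((t : S) : H), s₁⁆ ∈ E
      rw [map_commutatorElement]
      exact hEmem _ (t : S).2 s₁ hs₁
    refine ((Nat.dvd_prime hp.out).1 hd).resolve_left fun h => hSR ?_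
    rw [Subgroup.relIndex_eq_one] at h
    refine le_trans (fun x hx => Subgroup.mem_centralizer_iff.2 fun r hr => ?_) hCR
    exact (congrArg Subtype.val (Subgroup.mem_center_iff.1
      (h (show (⟨r, hRS hr⟩ : S) ∈ R' from hr)) ⟨x, hx⟩)).symm
  have hidx : Z.index = p ^ 2 := by
    rw [← Subgroup.relIndex_mul_index hZR', hrel, hR'i, pow_two]
  have hp3 : p ≠ 3 := D.ne_three hSp hidx
  by_cases hp2 : p = 2
  · -- four-group case
    obtain ⟨r, hr, hne⟩ := hmove s₁ hs₁ hs₁1
    have hrc : (⟨r, hRS hr⟩ : S) ∉ Z := fun h => hne (by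
      rw [show ⁅r, s₁⁆ = 1 from commutatorElement_eq_one_iff_mul_comm.2
        (congrArg Subtype.val (Subgroup.mem_center_iff.1 h ⟨s₁, hs₁⟩)).symm, map_one])
    apply hne
    have h := D.commutator_mem_squares hSp hp2 hidx R' hZR'
      (show (⟨r, hRS hr⟩ : S) ∈ R' from hr) hrc ⟨s₁, hs₁⟩
    have hle : Subgroup.closure {v : S | ∃ m ∈ R', m ^ 2 = v} ≤ (f.comp S.subtype).ker := by
      rw [Subgroup.closure_le]
      rintro _ ⟨m, hm, rfl⟩
      show f ((m ^ 2 : S) : H) = 1
      rw [Subgroup.coe_pow, map_pow]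
      have := hWp (f m) ⟨m, hm, rfl⟩
      exact (congrArg (f (m : H) ^ ·) hp2.symm).trans this
    exact hle h
  -- quadratic action
  have hV : IsElementaryAbelian p W :=
    ⟨⟨⟨fun a b => Subtype.ext (hWc a a.2 b b.2)⟩⟩, hWp⟩
  obtain ⟨M, _, _, _, ρ, hρ, hquad⟩ := CfsgLib.Transfer.QuadraticAction.exists_action_quotient W hV
  set a := φ s₁ with ha
  have hN : (ρ a - 1) * (ρ a - 1) = 0 := hquad (f s₁) fun v hv => by
    obtain ⟨r, hr, rfl⟩ := hv
    exact hEc s₁ hs₁ _ (hEmem r (hRS hr) s₁ hs₁)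
  refine finish ?_
  rintro _ ⟨t, ht, rfl⟩
  obtain ⟨i, r, hr, rfl⟩ := hAgen t ht
  have hr1 : φ r = 1 := by rw [← MonoidHom.mem_ker, hφker]; exact hr
  rw [map_mul, hr1, one_mul, map_zpow, ← ha]
  refine Subgroup.zpow_mem _ ?_ i
  have haA : a ∈ A := ⟨s₁, hs₁, rfl⟩
  haveI : IsMulCommutative A := hAel.1
  have hcop : (Nat.card A).Coprime (Nat.card H0) := by rw [hAcard]; exact hH0p.symm
  have htop : H0 ≤ Subgroup.centralizer ({a} : Set K) := by
    suffices h : H0 ⊓ Subgroup.centralizer ({a} : Set K) = H0 from fun x hx => (h.ge hx).2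
    refine Subgroup.eq_of_le_of_card_ge inf_le_left (Nat.le_of_dvd Nat.card_pos ?_)
    rw [← Nat.factorization_le_iff_dvd Nat.card_pos.ne' Nat.card_pos.ne']
    intro q
    by_cases hq : q.Prime
    swap
    · simp [Nat.factorization_eq_zero_of_not_prime _ hq]
    by_cases hdvd : q ∣ Nat.card H0
    swap
    · simp [Nat.factorization_eq_zero_of_not_dvd hdvd]
    haveI := Fact.mk hq
    have hqp : q ≠ p := fun e => hp.out.not_dvd_one
      (hH0p ▸ Nat.dvd_gcd (e ▸ hdvd) (dvd_refl p))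
    obtain ⟨Q, hQ⟩ := CfsgLib.Coprime.exists_invariant_sylow A H0 hAnorm hcop
      (Or.inl (Group.isSolvable_of_comm fun x y => hAel.1.is_comm.comm x y)) q
    set Q' := (Q : Subgroup H0).map H0.subtype with hQ'
    have hQp : IsPGroup q Q' := Q.isPGroup'.map _
    let T := Q' ⊔ Subgroup.zpowers a
    have hTn : (Q'.subgroupOf T).Normal := Subgroup.normal_subgroupOf_of_le_normalizer
      (sup_le Subgroup.le_normalizer (Subgroup.zpowers_le.2 (hQ haA)))
    haveI : Group.IsSolvable T := by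
      haveI : Group.IsSolvable (Q'.subgroupOf T) := by
        have hn : Group.IsNilpotent (Q'.subgroupOf T) := (hQp.comap_subtype (K := T)).isNilpotent
        exact @IsNilpotent.to_isSolvable _ _ hn
      let g := QuotientGroup.mk' (Q'.subgroupOf T)
      haveI : IsMulCommutative (T ⧸ Q'.subgroupOf T) := by
        haveI : IsCyclic (T ⧸ Q'.subgroupOf T) := by
          refine isCyclic_of_surjective
            (g.comp (Subgroup.inclusion (le_sup_right : Subgroup.zpowers a ≤ T))) ?_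
          intro z
          obtain ⟨⟨z, hz⟩, rfl⟩ := QuotientGroup.mk'_surjective _ z
          have hz' := hz
          rw [show T = Subgroup.zpowers a ⊔ Q' from sup_comm _ _] at hz'
          obtain ⟨w, hw, v, hv, rfl⟩ := CfsgLib.Coprime.exists_mul_of_mem_sup
            (Subgroup.zpowers_le.2 (hQ haA)) hz'
          refine ⟨⟨w, hw⟩, QuotientGroup.eq.2 ?_⟩
          show w⁻¹ * (w * v) ∈ Q'
          rwa [inv_mul_cancel_left]
        exact IsCyclic.isMulCommutative
      haveI : Group.IsSolvable (T ⧸ Q'.subgroupOf T) :=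
        Group.isSolvable_of_comm fun x y => mul_comm' x y
      refine Group.isSolvable_of_ker_le_range (Q'.subgroupOf T).subtype g ?_
      rw [QuotientGroup.ker_mk', Subgroup.range_subtype]
    have hQcent : Q' ≤ H0 ⊓ Subgroup.centralizer ({a} : Set K) := by
      intro x hx
      refine ⟨Subgroup.map_subtype_le _ hx, Subgroup.mem_centralizer_singleton_iff.2 ?_⟩
      have haT : a ∈ T := Subgroup.mem_sup_right (Subgroup.mem_zpowers _)
      have hxT : x ∈ T := Subgroup.mem_sup_left hx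
      have hc := CfsgLib.Transfer.QuadraticAction.commute_of_isPGroup (ρ.comp T.subtype)
        (a := ⟨a, haT⟩) hp2 hN (k := 1)
        (Subtype.ext (by rw [Subgroup.coe_pow, pow_one]; exact hAel.2 a haA)) hqp
        (Q := Q'.subgroupOf T) (hQp.comap_subtype)
        ((Subgroup.normalizer_eq_top _).ge (Subgroup.mem_top _)) (Or.inr (Or.inl hp3))
        (x := ⟨x, hxT⟩) hx
      refine hρ ?_
      rw [map_mul, map_mul]
      exact hc.symm.eq
    have hd := Subgroup.card_dvd_of_le hQcent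
    rw [hQ', Subgroup.card_subtype, Q.card_eq_multiplicity] at hd
    exact (hq.pow_dvd_iff_le_factorization Nat.card_pos.ne').1 hd
  refine Subgroup.mem_centralizer_iff.2 fun h hh => ?_
  exact Subgroup.mem_centralizer_singleton_iff.1 (htop hh)

/-- A `p`-solvable group with a Schmidt Sylow `p`-subgroup has `p`-length at most one. -/
theorem pLengthLE_one {G : Type u} [Group G] [Finite G] (hG : IsPSolvable p G) (Q : Sylow p G)
    (D : ∀ (S : Type u) [Group S] [Finite S], Nonempty (↥(Q : Subgroup G) ≃* S) →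
      Nonempty (SchmidtAut p S) ∨ IsMulCommutative S) : PLengthLE p 1 G := by
  refine CfsgLib.HallHigman.pLengthLE_of_coprime_kernel (pPrimeCore p G)
    CfsgLib.PCore.pPrimeCore_coprime ?_
  set N := pPrimeCore p G
  set π := QuotientGroup.mk' N
  have hπ : Function.Surjective π := QuotientGroup.mk'_surjective N
  have hH : IsPSolvable p (G ⧸ N) := CfsgLib.PCore.isPSolvable_quotient hG N
  have h0 : pPrimeCore p (G ⧸ N) = ⊥ := CfsgLib.PCore.pPrimeCore_quotient_pPrimeCore
  set P := Q.mapSurjective hπ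
  have hker : π.ker ⊓ (Q : Subgroup G) = ⊥ := by
    rw [QuotientGroup.ker_mk', inf_comm]
    exact CfsgLib.PCore.inf_eq_bot_of_isPGroup_coprime Q.isPGroup' CfsgLib.PCore.pPrimeCore_coprime
  let φ : ↥(Q : Subgroup G) →* ↥(P : Subgroup (G ⧸ N)) :=
    { toFun := fun x : ↥(Q : Subgroup G) => ⟨(QuotientGroup.mk' N) (x : G), by rw [Sylow.coe_mapSurjective]; exact ⟨x, x.2, rfl⟩⟩
      map_one' := Subtype.ext (map_one π)
      map_mul' := fun x y => Subtype.ext (map_mul π (x : G) (y : G)) }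
  have hφ : Function.Bijective φ := by
    refine ⟨(injective_iff_map_eq_one φ).2 fun x hx => ?_, fun y => ?_⟩
    · have : (x : G) ∈ π.ker ⊓ (Q : Subgroup G) := ⟨congrArg Subtype.val hx, x.2⟩
      rw [hker, Subgroup.mem_bot] at this
      exact Subtype.ext this
    · obtain ⟨y, hy⟩ := y
      rw [Sylow.coe_mapSurjective] at hy
      obtain ⟨x, hx, rfl⟩ := hy
      exact ⟨⟨x, hx⟩, rfl⟩
  have hle : (P : Subgroup (G ⧸ N)) ≤ pCore p (G ⧸ N) := by
    rcases D _ ⟨MulEquiv.ofBijective φ hφ⟩ with ⟨⟨D'⟩⟩ | hab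
    · exact sylow_le_pCore hH h0 P D'
    · intro x hx
      refine CfsgLib.PCore.centralizer_pCore_le hH h0 (Subgroup.mem_centralizer_iff.2 fun r hr => ?_)
      exact congrArg Subtype.val
        (hab.is_comm.comm ⟨r, CfsgLib.PCore.pCore_le_sylow P hr⟩ ⟨x, hx⟩)
  refine CfsgLib.HallHigman.pLengthLE_succ_of_pGroup_kernel (pCore p (G ⧸ N))
    CfsgLib.PCore.pCore_isPGroup ?_
  unfold PLengthLE
  rw [CfsgLib.PCore.upperPSeries_one]
  refine CfsgLib.PCore.pPrimeCore_eq_top_of_coprime ?_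
  rw [← Subgroup.index_eq_card]
  refine Nat.Coprime.symm ((Nat.Prime.coprime_iff_not_dvd hp.out).2 fun hd => ?_)
  exact P.not_dvd_index (hd.trans (Subgroup.index_dvd_of_le hle))

end CfsgLib.PLength85
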