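import Mathlib
import Cfsg.Agent.Lib.HallHigman.PLength
import Cfsg.Agent.Lib.Solvable.CoreFreeMaximal
import Cfsg.Agent.Lib.Structure.MinimalNormal
import Cfsg.Agent.Lib.Coprime.SchurZassenhaus
import Cfsg.Agent.Lib.Coprime.Action

/-!
A `p`-solvable group in which every maximal subgroup is `p`-nilpotent or of prime index reaches the
top of its upper `p`-series at the fourth term.
-/

set_option autoImplicit false
set_option linter.style.haveILetI false
set_option linter.unusedSectionVars false

open scoped commutatorElement Pointwise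

namespace CfsgLib.PLength85

open Cfsg CfsgLib.PCore Subgroup CfsgLib.CoreFreeMaximal

universe u

variable {p : ℕ} [hp : Fact p.Prime]

/-- Every maximal subgroup has a normal `p`-complement or prime index. -/
def MaxHyp (p : ℕ) (G : Type*) [Group G] : Prop :=
  ∀ M : Subgroup G, IsCoatom M →
    (∃ K : Subgroup ↥M, K.Normal ∧ ¬ p ∣ Nat.card K ∧ ∃ k : ℕ, K.index = p ^ k) ∨ (M.index).Prime

theorem MaxHyp.of_surjective {G H : Type*} [Group G] [Finite G] [Group H] (h : MaxHyp p G)
    (f : G →* H) (hf : Function.Surjective f) : MaxHyp p H := by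
  intro M hM
  have hMc : IsCoatom (M.comap f) := by
    refine ⟨fun e => hM.1 ?_, fun L hL => ?_⟩
    · rw [← map_comap_eq_self_of_surjective hf M, e, map_top_of_surjective _ hf]
    · have hker : f.ker ≤ L := (f.ker_le_comap M).trans hL.le
      have hlt : M < L.map f := by
        refine lt_of_le_not_ge ?_ fun hle => hL.not_ge ?_
        · rw [← map_comap_eq_self_of_surjective hf M]; exact map_mono hL.le
        · rw [← comap_map_eq_self hker]; exact comap_mono hle
      rw [← comap_map_eq_self hker, hM.2 _ hlt, comap_top]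
  rcases h _ hMc with ⟨K, hKn, hKp, k, hk⟩ | hprime
  · left
    let g : M.comap f →* M := f.subgroupComap M
    have hg : Function.Surjective g := f.subgroupComap_surjective_of_surjective M hf
    refine ⟨K.map g, hKn.map g hg, fun hd => hKp (hd.trans (card_map_dvd K g)), ?_⟩
    obtain ⟨i, -, hi⟩ := (Nat.dvd_prime_pow hp.out).1 (hk ▸ index_map_dvd K hg)
    exact ⟨i, hi⟩
  · right
    rwa [index_comap_of_surjective M hf] at hprime

section Upper

variable {G : Type u} [Group G] [Finite G]

/-- A normal `p'`-subgroup does not matter for the fourth term. -/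
theorem upper_four_of_coprime_kernel (N : Subgroup G) [N.Normal] (hN : (Nat.card N).Coprime p)
    (h : (upperPSeries p (G ⧸ N) 4).1 = ⊤) : (upperPSeries p G 4).1 = ⊤ := by
  let L : ℕ → Subgroup G := fun n =>
    if n = 0 then ⊥ else (upperPSeries p (G ⧸ N) n).1.comap (QuotientGroup.mk' N)
  have hLn : ∀ n, (L n).Normal := fun n => by
    simp only [L]; split
    · infer_instance
    · exact (upperPSeries p (G ⧸ N) n).2.comap _
  have hrel : ∀ n, (L (n + 1)) = (upperPSeries p (G ⧸ N) (n + 1)).1.comap (QuotientGroup.mk' N) :=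
    fun n => by simp [L]
  have key := CfsgLib.HallHigman.le_upper_of_series (p := p) 0 (by decide) L hLn
    (by simp [L, upperPSeries_zero]) ?_ ?_ 4
  · rw [hrel, h, Subgroup.comap_top] at key
    exact top_le_iff.mp key
  · intro n hn
    rw [hrel]
    rcases n with _ | n
    · rw [show L 0 = ⊥ from rfl, Subgroup.relIndex_bot_left, card_comap_mk', upperPSeries_one]
      exact Nat.Coprime.mul_left hN pPrimeCore_coprime
    · rw [hrel, Subgroup.relIndex_comap,
        Subgroup.map_comap_eq_self_of_surjective (QuotientGroup.mk'_surjective N)]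
      exact CfsgLib.HallHigman.relIndex_upper_coprime hn
  · intro n hn
    rcases n with _ | n
    · exact absurd (by decide) hn
    · rw [hrel, hrel, Subgroup.relIndex_comap,
        Subgroup.map_comap_eq_self_of_surjective (QuotientGroup.mk'_surjective N)]
      exact CfsgLib.HallHigman.relIndex_upper_pow hn

/-- A normal `p`-subgroup `N` with `O_{p'}(G ⧸ N) = 1` does not matter for the fourth term. -/
theorem upper_four_of_pGroup_kernel (N : Subgroup G) [N.Normal] (hN : IsPGroup p N)
    (h0 : pPrimeCore p (G ⧸ N) = ⊥)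
    (h : (upperPSeries p (G ⧸ N) 4).1 = ⊤) : (upperPSeries p G 4).1 = ⊤ := by
  let L : ℕ → Subgroup G := fun n =>
    if n ≤ 1 then ⊥ else (upperPSeries p (G ⧸ N) n).1.comap (QuotientGroup.mk' N)
  have hLn : ∀ n, (L n).Normal := fun n => by
    simp only [L]; split
    · infer_instance
    · exact (upperPSeries p (G ⧸ N) n).2.comap _
  have hrel : ∀ n, (L (n + 2)) = (upperPSeries p (G ⧸ N) (n + 2)).1.comap (QuotientGroup.mk' N) :=
    fun n => by simp [L]
  have key := CfsgLib.HallHigman.le_upper_of_series (p := p) 0 (by decide) L hLn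
    (by simp [L, upperPSeries_zero]) ?_ ?_ 4
  · rw [hrel, h, Subgroup.comap_top] at key
    exact top_le_iff.mp key
  · intro n hn
    rcases n with _ | _ | n
    · simp [L]
    · exact absurd hn (by decide)
    · rw [hrel, hrel (n + 1), Subgroup.relIndex_comap,
        Subgroup.map_comap_eq_self_of_surjective (QuotientGroup.mk'_surjective N)]
      exact CfsgLib.HallHigman.relIndex_upper_coprime hn
  · intro n hn
    rcases n with _ | _ | n
    · exact absurd (by decide) hn
    · rw [show L 1 = ⊥ from rfl, hrel 0, Subgroup.relIndex_bot_left, card_comap_mk']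
      obtain ⟨a, ha⟩ := IsPGroup.iff_card.1 hN
      obtain ⟨b, hb⟩ := CfsgLib.HallHigman.relIndex_upper_pow (p := p) (G := G ⧸ N) (n := 1) (by decide)
      rw [upperPSeries_one, h0, Subgroup.relIndex_bot_left] at hb
      exact ⟨a + b, by rw [ha, hb, pow_add]⟩
    · rw [hrel, hrel (n + 1), Subgroup.relIndex_comap,
        Subgroup.map_comap_eq_self_of_surjective (QuotientGroup.mk'_surjective N)]
      exact CfsgLib.HallHigman.relIndex_upper_pow hn

/-- Subdirect products. -/
theorem upper_four_of_inf_eq_bot (M N : Subgroup G) [M.Normal] [N.Normal] (hMN : M ⊓ N = ⊥)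
    (hM : (upperPSeries p (G ⧸ M) 4).1 = ⊤) (hN : (upperPSeries p (G ⧸ N) 4).1 = ⊤) :
    (upperPSeries p G 4).1 = ⊤ := by
  let A : ℕ → Subgroup G := fun n => (upperPSeries p (G ⧸ M) n).1.comap (QuotientGroup.mk' M)
  let B : ℕ → Subgroup G := fun n => (upperPSeries p (G ⧸ N) n).1.comap (QuotientGroup.mk' N)
  have hA : ∀ n, (A n).Normal := fun n => (upperPSeries p (G ⧸ M) n).2.comap _
  have hB : ∀ n, (B n).Normal := fun n => (upperPSeries p (G ⧸ N) n).2.comap _
  have hdvd : ∀ n, (A n ⊓ B n).relIndex (A (n + 1) ⊓ B (n + 1)) ∣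
      (upperPSeries p (G ⧸ M) n).1.relIndex (upperPSeries p (G ⧸ M) (n + 1)).1 *
        (upperPSeries p (G ⧸ N) n).1.relIndex (upperPSeries p (G ⧸ N) (n + 1)).1 := by
    intro n
    haveI := hA n
    haveI := hB n
    set C := A (n + 1) ⊓ B (n + 1)
    have hBn : B n ≤ B (n + 1) := Subgroup.comap_mono (upperPSeries_le_succ n)
    have hAn : A n ≤ A (n + 1) := Subgroup.comap_mono (upperPSeries_le_succ n)
    rw [← Subgroup.relIndex_mul_relIndex (A n ⊓ B n) (A n ⊓ C) C
      (le_inf inf_le_left (inf_le_inf hAn hBn)) inf_le_right, mul_comm]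
    have e1 : (A n ⊓ C).relIndex C = (A n).relIndex C := Subgroup.inf_relIndex_right _ _
    have e2 : (A n ⊓ B n).relIndex (A n ⊓ C) = (B n).relIndex (A n ⊓ C) := by
      rw [← Subgroup.inf_relIndex_right (B n) (A n ⊓ C)]
      congr 1
      refine le_antisymm (le_inf inf_le_right (le_inf inf_le_left (inf_le_inf hAn hBn))) ?_
      exact le_inf (inf_le_right.trans inf_le_left) inf_le_left
    rw [e1, e2]
    refine Nat.mul_dvd_mul ?_ ?_
    · refine (relIndex_dvd_of_normal_le (inf_le_left : C ≤ A (n + 1))).trans (dvd_of_eq ?_)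
      simp only [A]
      rw [Subgroup.relIndex_comap, Subgroup.map_comap_eq_self_of_surjective (QuotientGroup.mk'_surjective M)]
    · refine (relIndex_dvd_of_normal_le
        (inf_le_right.trans inf_le_right : A n ⊓ C ≤ B (n + 1))).trans (dvd_of_eq ?_)
      simp only [B]
      rw [Subgroup.relIndex_comap, Subgroup.map_comap_eq_self_of_surjective (QuotientGroup.mk'_surjective N)]
  have key := CfsgLib.HallHigman.le_upper_of_series (p := p) 0 (by decide) (fun n => A n ⊓ B n)
    (fun n => by haveI := hA n; haveI := hB n; infer_instance)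
    (by simp [A, B, upperPSeries_zero, MonoidHom.comap_bot, hMN])
    (fun n hn => Nat.Coprime.coprime_dvd_left (hdvd n)
      (Nat.Coprime.mul_left (CfsgLib.HallHigman.relIndex_upper_coprime hn)
        (CfsgLib.HallHigman.relIndex_upper_coprime hn)))
    (fun n hn => by
      obtain ⟨a, ha⟩ := CfsgLib.HallHigman.relIndex_upper_pow (p := p) (G := G ⧸ M) hn
      obtain ⟨b, hb⟩ := CfsgLib.HallHigman.relIndex_upper_pow (p := p) (G := G ⧸ N) hn
      have h2 := hdvd n
      rw [ha, hb, ← pow_add] at h2
      obtain ⟨i, -, hi⟩ := (Nat.dvd_prime_pow hp.out).1 h2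
      exact ⟨i, hi⟩) 4
  simp only [A, B, hM, hN, Subgroup.comap_top, inf_idem, add_zero] at key
  exact top_le_iff.mp key

end Upper

/-- The main induction. -/
theorem upper_four_eq_top : ∀ (n : ℕ) (G : Type u) [Group G] [Finite G], Nat.card G ≤ n →
    IsPSolvable p G → MaxHyp p G → (upperPSeries p G 4).1 = ⊤ := by
  intro n
  induction n with
  | zero => intro G _ _ h; exact absurd h (Nat.card_pos (α := G)).not_ge
  | succ n ih =>
    intro G _ _ hcard hsolv hmax
    rcases subsingleton_or_nontrivial G with hs | hnt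
    · exact Subsingleton.elim _ _
    have hquot : ∀ N : Subgroup G, ∀ _ : N.Normal, N ≠ ⊥ → (upperPSeries p (G ⧸ N) 4).1 = ⊤ := by
      intro N _ hN
      refine ih _ ?_ (isPSolvable_quotient hsolv N)
        (hmax.of_surjective _ (QuotientGroup.mk'_surjective N))
      have h1 := N.card_mul_index
      rw [Subgroup.index_eq_card] at h1
      have h2 := (Subgroup.one_lt_card_iff_ne_bot N).2 hN
      have h3 : 0 < Nat.card (G ⧸ N) := Nat.card_pos
      nlinarith
    by_cases h0 : pPrimeCore p G = ⊥
    swap
    · exact upper_four_of_coprime_kernel _ pPrimeCore_coprime (hquot _ inferInstance h0)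
    obtain ⟨N, hN⟩ := CfsgLib.Structure.exists_isMinNormal (G := G)
    haveI := hN.normal
    have hNp : IsPGroup p N := by
      rcases CfsgLib.Structure.IsMinNormal.inf_eq_bot_or_le hN
        (inferInstance : (pCore p G).Normal) with h | h
      · exfalso
        have hN' : Nontrivial N := (Subgroup.nontrivial_iff_ne_bot N).2 hN.ne_bot
        rcases pCore_ne_bot_or_pPrimeCore_ne_bot (isPSolvable_subgroup hsolv N) with h' | h'
        · apply h'
          rw [← Subgroup.map_eq_bot_iff_of_injective _ N.subtype_injective,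
            map_pCore_subtype_of_normal, h]
        · apply h'
          rw [← Subgroup.map_eq_bot_iff_of_injective _ N.subtype_injective,
            map_pPrimeCore_subtype_of_normal, h0, inf_bot_eq]
      · exact pCore_isPGroup.to_le h
    by_cases hother : ∃ N' : Subgroup G, CfsgLib.Structure.IsMinNormal N' ∧ N' ≠ N
    · obtain ⟨N', hN', hne⟩ := hother
      haveI := hN'.normal
      exact upper_four_of_inf_eq_bot N' N (hN'.inf_eq_bot hN hne) (hquot _ inferInstance hN'.ne_bot)
        (hquot _ inferInstance hN.ne_bot)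
    push Not at hother
    haveI hNc : IsMulCommutative N := by
      haveI := hNp.isNilpotent
      haveI : Nontrivial N := (Subgroup.nontrivial_iff_ne_bot N).2 hN.ne_bot
      have hc : ((Subgroup.center N).map N.subtype).Normal := inferInstance
      have hcN := hN.eq_of_le hc (Subgroup.map_subtype_le _) (by
        rw [Ne, Subgroup.map_eq_bot_iff_of_injective _ N.subtype_injective]
        exact hNp.bot_lt_center.ne')
      refine ⟨⟨fun a b => ?_⟩⟩
      obtain ⟨c, hc, hce⟩ : (a : G) ∈ (Subgroup.center N).map N.subtype := hcN.symm ▸ a.2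
      rw [← Subtype.ext hce]
      exact (Subgroup.mem_center_iff.1 hc b).symm
    by_cases hΦ : ∀ M : Subgroup G, IsCoatom M → N ≤ M
    · -- inside the Frattini subgroup
      refine upper_four_of_pGroup_kernel N hNp ?_ (hquot _ inferInstance hN.ne_bot)
      set K := (pPrimeCore p (G ⧸ N)).comap (QuotientGroup.mk' N) with hK
      have hNK : N ≤ K := fun x hx => by
        show QuotientGroup.mk' N x ∈ pPrimeCore p (G ⧸ N)
        rw [QuotientGroup.mk'_apply, (QuotientGroup.eq_one_iff x).2 hx]
        exact one_mem _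
      haveI : K.Normal := (inferInstance : (pPrimeCore p (G ⧸ N)).Normal).comap _
      have hKi : (N.subgroupOf K).index = Nat.card (pPrimeCore p (G ⧸ N)) := by
        change N.relIndex K = _
        rw [← card_map_mk', hK, map_comap_eq_self_of_surjective (QuotientGroup.mk'_surjective N)]
      have hcop : (Nat.card (N.subgroupOf K)).Coprime (N.subgroupOf K).index := by
        obtain ⟨a, ha⟩ := IsPGroup.iff_card.1 hNp
        rw [hKi, Nat.card_congr (Subgroup.subgroupOfEquivOfLe hNK).toEquiv, ha]
        exact Nat.Coprime.pow_left a pPrimeCore_coprime.symm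
      obtain ⟨Q, hQ⟩ := Subgroup.exists_right_complement'_of_coprime hcop
      have hQc : Nat.card Q = (N.subgroupOf K).index := (hQ.symm.index_eq_card).symm
      haveI : Group.IsSolvable (N.subgroupOf K) := Group.isSolvable_of_comm fun a b =>
        Subtype.ext (Subtype.ext (setLike_mul_comm (S := Subgroup G) (s := N)
          (Subgroup.mem_subgroupOf.1 a.2) (Subgroup.mem_subgroupOf.1 b.2)))
      -- the complement is normal in `G`
      set Q₀ := Q.map K.subtype with hQ₀
      have hgen : ∀ g : G, ∃ m ∈ N, m⁻¹ * g ∈ normalizer (Q₀ : Set G) := by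
        intro g
        let e : K ≃* K := MulAut.conjNormal g
        obtain ⟨x, hx, hxe⟩ := CfsgLib.Coprime.conj_complement_of_card (N.subgroupOf K) hcop
          (Or.inl inferInstance) Q (Q.map e.toMonoidHom) hQc
          (by rw [← Nat.card_congr (Q.equivMapOfInjective e.toMonoidHom e.injective).toEquiv, hQc])
        refine ⟨x, hx, CfsgLib.Coprime.mem_normalizer_of_forall_conj ?_⟩
        rintro _ ⟨q, hq, rfl⟩
        have h1 : e q ∈ MulAut.conj x • Q := hxe.symm ▸ ⟨q, hq, rfl⟩
        rw [CfsgLib.Coprime.mem_conj_smul] at h1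
        refine ⟨_, h1, ?_⟩
        show ((x⁻¹ * e q * x : K) : G) = (x : G)⁻¹ * g * q * ((x : G)⁻¹ * g)⁻¹
        rw [Subgroup.coe_mul, Subgroup.coe_mul, Subgroup.coe_inv, MulAut.conjNormal_apply]
        group
      have hQn : Q₀.Normal := by
        rw [← normalizer_eq_top_iff]
        by_contra hne
        obtain ⟨M, hM, hle⟩ := (IsCoatomic.eq_top_or_exists_le_coatom
          (normalizer (Q₀ : Set G))).resolve_left hne
        refine hM.1 (top_le_iff.1 fun g _ => ?_)
        obtain ⟨m, hm, hmg⟩ := hgen g
        simpa using mul_mem (hΦ M hM hm) (hle hmg)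
      have hQ1 : Q₀ = ⊥ := by
        refine le_bot_iff.1 (h0 ▸ le_pPrimeCore hQn ?_)
        rw [hQ₀, Subgroup.card_subtype, hQc, hKi]
        exact pPrimeCore_coprime
      refine Subgroup.card_eq_one.1 ?_
      rw [← hKi, ← hQc, ← Subgroup.card_subtype, ← hQ₀, hQ1, Subgroup.card_bot]
    -- a complemented minimal normal subgroup
    push Not at hΦ
    obtain ⟨M, hM, hNM⟩ := hΦ
    have hcore : M.normalCore = ⊥ := by
      by_contra hne
      obtain ⟨N', hN', hle⟩ := CfsgLib.Structure.exists_isMinNormal_le
        (inferInstance : M.normalCore.Normal) hne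
      exact hNM ((hother N' hN') ▸ hle.trans (Subgroup.normalCore_le M))
    have hCN : centralizer (N : Set G) = N := centralizer_eq_self hM hcore hN.ne_bot
    have hcompl := isComplement'_of_commutative hM hcore hN.ne_bot (A := N)
    obtain ⟨a, ha⟩ := IsPGroup.iff_card.1 hNp
    -- the series `⊥ ≤ N ≤ T ≤ ⊤`
    have hseries : ∀ T : Subgroup G, T.Normal → (N.relIndex T).Coprime p →
        (∃ k, T.index = p ^ k) → (upperPSeries p G 4).1 = ⊤ := by
      intro T hT hcp hidx
      obtain ⟨k, hk⟩ := hidx
      let L : ℕ → Subgroup G := fun n => if n ≤ 1 then ⊥ else if n = 2 then N else if n = 3 then T else ⊤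
      have key := CfsgLib.HallHigman.le_upper_of_series (p := p) 0 (by decide) L
        (fun n => by simp only [L]; split_ifs <;> infer_instance)
        (by simp [L, upperPSeries_zero]) ?_ ?_ 4
      · exact top_le_iff.1 key
      · intro n hn
        rcases n with _ | _ | _ | _ | n
        · simp [L]
        · exact absurd hn (by decide)
        · simpa [L] using hcp
        · exact absurd hn (by decide)
        · simp [L]
      · intro n hn
        rcases n with _ | _ | _ | _ | n
        · exact absurd (by decide) hn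
        · exact ⟨a, by simp [L, ha]⟩
        · exact absurd (by decide) hn
        · exact ⟨k, by simp [L, hk]⟩
        · exact ⟨0, by simp [L]⟩
    rcases hmax M hM with ⟨K, hKn, hKp, k, hk⟩ | hprime
    · -- `p`-nilpotent complement
      set K₀ := K.map M.subtype with hK₀
      have hK₀M : K₀ ≤ M := Subgroup.map_subtype_le _
      have hTn : (N ⊔ K₀).Normal := by
        rw [← normalizer_eq_top_iff, ← top_le_iff, ← hcompl.sup_eq_top, sup_le_iff]
        refine ⟨le_sup_left.trans le_normalizer, fun m hm => ?_⟩
        rw [mem_normalizer_iff_map_conj_eq]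
        refine Subgroup.eq_of_le_of_card_ge ?_ (by
          rw [Subgroup.card_map_of_injective (MulAut.conj m).injective])
        rw [Subgroup.map_sup]
        refine sup_le_sup ?_ ?_
        · rintro _ ⟨x, hx, rfl⟩
          exact (inferInstance : N.Normal).conj_mem x hx m
        · rintro _ ⟨_, ⟨x, hx, rfl⟩, rfl⟩
          exact ⟨⟨m, hm⟩ * x * ⟨m, hm⟩⁻¹, hKn.conj_mem x hx _, rfl⟩
      have hdisj : N ⊓ K₀ = ⊥ :=
        le_bot_iff.1 ((inf_le_inf_left N hK₀M).trans hcompl.disjoint.eq_bot.le)
      have hcardT : Nat.card (N ⊔ K₀ : Subgroup G) = Nat.card N * Nat.card K := by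
        rw [sup_comm, CfsgLib.Coprime.card_sup_of_disjoint
          (le_top.trans (Subgroup.normalizer_eq_top N).ge) hdisj, hK₀, Subgroup.card_subtype, mul_comm]
      refine hseries _ hTn ?_ ⟨k, ?_⟩
      · have h1 := (N.subgroupOf (N ⊔ K₀)).card_mul_index
        rw [Nat.card_congr (Subgroup.subgroupOfEquivOfLe (le_sup_left : N ≤ N ⊔ K₀)).toEquiv, hcardT] at h1
        change (N.subgroupOf (N ⊔ K₀)).index.Coprime p
        rw [Nat.eq_of_mul_eq_mul_left Nat.card_pos h1]
        exact coprime_of_not_dvd_card hKp
      · have h1 := (N ⊔ K₀).card_mul_index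
        rw [hcardT, ← hcompl.card_mul, ← K.card_mul_index, hk, mul_assoc] at h1
        exact Nat.eq_of_mul_eq_mul_left (n := Nat.card N * Nat.card K)
          (Nat.mul_pos Nat.card_pos Nat.card_pos) (by rw [mul_assoc, mul_assoc]; exact h1)
    · -- `|N|` is prime
      have hNp' : Nat.card N = p := by
        rw [← hcompl.index_eq_card] at ha
        have h1 : a ≠ 0 := fun h => hM.1 (Subgroup.index_eq_one.1 (by rw [ha, h, pow_zero]))
        have h2 := (Nat.prime_dvd_prime_iff_eq hp.out hprime).1 (ha ▸ dvd_pow_self p h1)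
        rw [← hcompl.index_eq_card, ← h2]
      refine hseries ⊤ inferInstance ?_ ⟨0, by simp⟩
      rw [Subgroup.relIndex_top_right, Subgroup.index_eq_card]
      refine coprime_of_not_dvd_card fun hd => ?_
      -- the quotient embeds in the automorphisms of a group of order `p`
      have hker : (MulAut.conjNormal (H := N)).ker = N := by
        refine Eq.trans ?_ hCN
        ext x
        rw [MonoidHom.mem_ker, Subgroup.mem_centralizer_iff]
        constructor
        · intro hx y hy
          have := congrArg Subtype.val (DFunLike.congr_fun hx ⟨y, hy⟩)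
          rw [MulAut.conjNormal_apply, MulAut.one_apply] at this
          exact (mul_inv_eq_iff_eq_mul.1 this).symm
        · intro hx
          refine MulEquiv.ext fun y => Subtype.ext ?_
          rw [MulAut.conjNormal_apply, MulAut.one_apply, ← hx y y.2, mul_inv_cancel_right]
      have h2 : Nat.card (G ⧸ N) = Nat.card (MulAut.conjNormal (H := N)).range := by
        rw [← Subgroup.index_eq_card, ← Subgroup.index_ker]
        exact congrArg Subgroup.index hker.symm
      have hd' : p ∣ Nat.card (MulAut N) :=
        (h2 ▸ hd).trans (Subgroup.card_subgroup_dvd_card _)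
      haveI : IsCyclic N := isCyclic_of_prime_card hNp'
      rw [IsCyclic.card_mulAut, hNp', Nat.totient_prime hp.out] at hd'
      have := hp.out.two_le
      have := Nat.le_of_dvd (by omega) hd'
      omega

/-- The statement form: a chain `A ≤ B ≤ C` with factors `p'`, `p`, `p'`, `p`. -/
theorem exists_chain {G : Type u} [Group G] [Finite G] (hsolv : IsPSolvable p G) (hmax : MaxHyp p G) :
    ∃ A B C : Subgroup G, A.Normal ∧ B.Normal ∧ C.Normal ∧ A ≤ B ∧ B ≤ C ∧ ¬ p ∣ Nat.card A ∧
      (∃ k : ℕ, A.relIndex B = p ^ k) ∧ ¬ p ∣ B.relIndex C ∧ ∃ k : ℕ, C.index = p ^ k := by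
  have h4 := upper_four_eq_top _ G le_rfl hsolv hmax
  refine ⟨(upperPSeries p G 1).1, (upperPSeries p G 2).1, (upperPSeries p G 3).1,
    (upperPSeries p G 1).2, (upperPSeries p G 2).2, (upperPSeries p G 3).2,
    upperPSeries_le_succ 1, upperPSeries_le_succ 2, ?_, ?_, ?_, ?_⟩
  · rw [upperPSeries_one]; exact not_dvd_card_pPrimeCore
  · exact CfsgLib.HallHigman.relIndex_upper_pow (by decide)
  · exact (Nat.Prime.coprime_iff_not_dvd hp.out).1
      (CfsgLib.HallHigman.relIndex_upper_coprime (n := 2) (by decide)).symm
  · obtain ⟨k, hk⟩ := CfsgLib.HallHigman.relIndex_upper_pow (p := p) (G := G) (n := 3) (by decide)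
    rw [h4, Subgroup.relIndex_top_right] at hk
    exact ⟨k, hk⟩

end CfsgLib.PLength85
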