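import Mathlib
import Cfsg.Agent.Lib.PGroup.Frattini
import Cfsg.Agent.Lib.Coprime85.Invariant

/-!
`p`-groups carrying a coprime automorphism of prime order that centralises every invariant proper
subgroup (the Sylow subgroups of minimal non-nilpotent groups).
-/

set_option autoImplicit false
set_option linter.style.haveILetI false
set_option linter.unusedSectionVars false

open scoped commutatorElement

namespace CfsgLib.PLength85

/-- An automorphism of prime order `q ≠ p` centralising each invariant proper subgroup. -/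
structure SchmidtAut (p : ℕ) (S : Type*) [Group S] where
  α : MulAut S
  q : ℕ
  hq : q.Prime
  hqp : q ≠ p
  pow_eq : α ^ q = 1
  ne_one : α ≠ 1
  fix : ∀ L : Subgroup S, L ≠ ⊤ → (∀ x ∈ L, α x ∈ L) → ∀ x ∈ L, α x = x

namespace SchmidtAut

variable {p : ℕ} [hp : Fact p.Prime] {S : Type*} [Group S] [Finite S] (D : SchmidtAut p S)
  (hS : IsPGroup p S)

include D hS

theorem frattini_ne_top : frattini S ≠ ⊤ := by
  intro h
  have h1 : (⊥ : Subgroup S) = ⊤ := frattini_nongenerating (by rw [bot_sup_eq, h])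
  refine D.ne_one (MulEquiv.ext fun x => ?_)
  have hx : x ∈ (⊥ : Subgroup S) := h1 ▸ Subgroup.mem_top x
  rw [Subgroup.mem_bot] at hx
  rw [hx, map_one]; rfl

omit hS in
theorem map_frattini {x : S} (hx : x ∈ frattini S) : D.α x ∈ frattini S :=
  (Subgroup.characteristic_iff_comap_eq.1 (inferInstance : (frattini S).Characteristic) D.α).ge hx

theorem fix_frattini {x : S} (hx : x ∈ frattini S) : D.α x = x :=
  D.fix _ (D.frattini_ne_top hS) (fun _ h => D.map_frattini h) x hx

/-- The fixed subgroup of the automorphism. -/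
def fixed : Subgroup S where
  carrier := {x | D.α x = x}
  one_mem' := map_one _
  mul_mem' {a b} (ha : D.α a = a) (hb : D.α b = b) := show D.α (a * b) = a * b by rw [map_mul, ha, hb]
  inv_mem' {a} (ha : D.α a = a) := show D.α a⁻¹ = a⁻¹ by rw [map_inv, ha]

omit hS in
theorem pow_mem {L : Subgroup S} (hL : ∀ x ∈ L, D.α x ∈ L) (a : Subgroup.zpowers D.α) {x : S}
    (hx : x ∈ L) : a • x ∈ L := by
  obtain ⟨a, ha⟩ := a
  obtain ⟨n, hn⟩ := mem_powers_iff_mem_zpowers.2 ha
  subst hn
  show (D.α ^ n) x ∈ L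
  clear ha
  induction n with
  | zero => simpa using hx
  | succ n ih => rw [pow_succ', MulAut.mul_apply]; exact hL _ ih

theorem fixed_eq : D.fixed = frattini S := by
  have hle : frattini S ≤ D.fixed := fun x hx => D.fix_frattini hS hx
  refine le_antisymm ?_ hle
  have hne : D.fixed ≠ ⊤ := fun h => D.ne_one (MulEquiv.ext fun x =>
    show D.α x = x from (h ▸ Subgroup.mem_top x : x ∈ D.fixed))
  have hA : ¬ p ∣ Nat.card (Subgroup.zpowers D.α) := by
    rw [Nat.card_zpowers, orderOf_eq_prime (hp := Fact.mk D.hq) D.pow_eq D.ne_one]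
    exact fun h => D.hqp ((Nat.prime_dvd_prime_iff_eq hp.out D.hq).1 h).symm
  obtain ⟨N, hN, hΦN, hinf, hsup⟩ := CfsgLib.Coprime85.exists_invariant_compl_mod_frattini
    (A := Subgroup.zpowers D.α) hS hA D.fixed hle
    (fun a x hx => D.pow_mem (L := D.fixed) (fun y hy => by
      show D.α (D.α y) = D.α y
      rw [show D.α y = y from hy]; exact hy) a hx)
  rcases eq_or_ne N ⊤ with rfl | hN'
  · rw [inf_top_eq] at hinf; exact hinf.le
  · have : N ≤ D.fixed := D.fix N hN' fun x hx => hN ⟨D.α, Subgroup.mem_zpowers _⟩ x hx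
    rw [sup_eq_left.2 this] at hsup
    exact absurd hsup hne

theorem le_frattini_of_invariant {L : Subgroup S} (hL : L ≠ ⊤) (hLi : ∀ x ∈ L, D.α x ∈ L) :
    L ≤ frattini S :=
  fun x hx => (D.fixed_eq hS).le (D.fix L hL hLi x hx)

omit hS in
theorem map_closure_le {T : Set S} {L : Subgroup S} (h : ∀ x ∈ T, D.α x ∈ L) {x : S}
    (hx : x ∈ Subgroup.closure T) : D.α x ∈ L :=
  (Subgroup.closure_le (K := L.comap D.α.toMonoidHom)).2 h hx

theorem mem_frattini_of_move {x : S} (hx : D.α x * x⁻¹ ∈ frattini S) : x ∈ frattini S := by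
  by_contra hxΦ
  set c := D.α x * x⁻¹ with hc
  have hαx : D.α x = c * x := by rw [hc, inv_mul_cancel_right]
  set L := Subgroup.closure ({x} ∪ (frattini S : Set S)) with hL
  have hxL : x ∈ L := Subgroup.subset_closure (Or.inl rfl)
  have hLi : ∀ y ∈ L, D.α y ∈ L := fun y hy => D.map_closure_le (fun z hz => by
    rcases hz with rfl | hz
    · rw [hαx]; exact mul_mem (Subgroup.subset_closure (Or.inr hx)) hxL
    · exact Subgroup.subset_closure (Or.inr (D.map_frattini hz))) hy
  by_cases hLtop : L = ⊤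
  · have hgen : Subgroup.zpowers x = ⊤ := by
      refine frattini_nongenerating (top_le_iff.1 (hLtop.ge.trans ((Subgroup.closure_le _).2 ?_)))
      rintro z (rfl | hz)
      · exact Subgroup.mem_sup_left (Subgroup.mem_zpowers _)
      · exact Subgroup.mem_sup_right hz
    have hcfix : D.α c = c := D.fix_frattini hS hx
    have hpow : ∀ n : ℕ, (D.α ^ n) x = c ^ n * x := by
      intro n
      induction n with
      | zero => simp
      | succ n ih => rw [pow_succ', MulAut.mul_apply, ih, map_mul, map_pow, hcfix, hαx, ← mul_assoc,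
          ← pow_succ]
    have hcq : c ^ D.q = 1 := by
      have h := hpow D.q
      rw [D.pow_eq, MulAut.one_apply] at h
      exact mul_eq_right.1 h.symm
    have hc1 : c = 1 := by
      obtain ⟨k, hk⟩ := hS c
      have hcop : (p ^ k).Coprime D.q :=
        Nat.Coprime.pow_left k ((Nat.coprime_primes hp.out D.hq).2 (Ne.symm D.hqp))
      have := pow_gcd_eq_one.2 (show c ^ (p ^ k) = 1 ∧ c ^ D.q = 1 from ⟨hk, hcq⟩)
      rwa [hcop.gcd_eq_one, pow_one] at this
    have hfix : x ∈ D.fixed := show D.α x = x by rw [hαx, hc1, one_mul]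
    exact hxΦ ((D.fixed_eq hS).le hfix)
  · exact hxΦ (D.le_frattini_of_invariant hS hLtop hLi hxL)

theorem frattini_le_center : frattini S ≤ Subgroup.center S := by
  intro c hc
  set T := Subgroup.closure (Set.range fun g : S => g⁻¹ * D.α g) with hT
  have hTtop : T = ⊤ := by
    by_contra h
    have hle := D.le_frattini_of_invariant hS h fun y hy => D.map_closure_le (by
      rintro _ ⟨g, rfl⟩
      refine Subgroup.subset_closure ⟨D.α g, ?_⟩
      simp [map_mul, map_inv]) hy
    refine D.frattini_ne_top hS (top_le_iff.1 fun g _ => D.mem_frattini_of_move hS ?_)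
    have := (inferInstance : (frattini S).Normal).conj_mem _
      (hle (Subgroup.subset_closure ⟨g, rfl⟩)) g
    simpa [mul_assoc] using this
  refine Subgroup.mem_center_iff.2 fun y => ?_
  have hle : T ≤ Subgroup.centralizer ({c} : Set S) := by
    rw [hT, Subgroup.closure_le]
    rintro _ ⟨g, rfl⟩
    refine Subgroup.mem_centralizer_singleton_iff.2 ?_
    have h1 : g * c * g⁻¹ ∈ frattini S := (inferInstance : (frattini S).Normal).conj_mem c hc g
    have h2 := D.fix_frattini hS h1
    rw [map_mul, map_mul, map_inv, D.fix_frattini hS hc] at h2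
    calc g⁻¹ * D.α g * c = g⁻¹ * (D.α g * c * (D.α g)⁻¹) * D.α g := by group
      _ = g⁻¹ * (g * c * g⁻¹) * D.α g := by rw [h2]
      _ = c * (g⁻¹ * D.α g) := by group
  exact Subgroup.mem_centralizer_singleton_iff.1 (hle (hTtop ▸ Subgroup.mem_top y))

theorem commutator_mem_center (x y : S) : ⁅x, y⁆ ∈ Subgroup.center S :=
  D.frattini_le_center hS (by
    have h : ⁅x, y⁆ ∈ commutator S :=
      Subgroup.commutator_mem_commutator (Subgroup.mem_top x) (Subgroup.mem_top y)
    simp only [frattini, Order.radical, Subgroup.mem_iInf]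
    exact fun M hM => CfsgLib.PGroup.commutator_le_of_isCoatom hS hM h)

theorem pow_mem_center (x : S) : x ^ p ∈ Subgroup.center S :=
  D.frattini_le_center hS (CfsgLib.PGroup.pow_mem_frattini hS x)

theorem center_eq (hna : Subgroup.center S ≠ ⊤) : Subgroup.center S = frattini S :=
  le_antisymm (D.le_frattini_of_invariant hS hna fun x hx =>
    (Subgroup.characteristic_iff_comap_eq.1 (inferInstance : (Subgroup.center S).Characteristic)
      D.α).ge hx) (D.frattini_le_center hS)

/-- Each non-central element has all commutators among its own. -/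
theorem exists_commutator_eq {x : S} (hx : x ∉ Subgroup.center S) (y z : S) :
    ∃ w, ⁅x, w⁆ = ⁅y, z⁆ := by
  have hc := D.commutator_mem_center hS
  have hmul : ∀ u v w : S, ⁅u, v * w⁆ = ⁅u, v⁆ * ⁅u, w⁆ := fun u v w => by
    have h := Subgroup.mem_center_iff.1 (hc u w) v
    calc ⁅u, v * w⁆ = ⁅u, v⁆ * (v * ⁅u, w⁆ * v⁻¹) := by simp [commutatorElement_def, mul_assoc]
      _ = ⁅u, v⁆ * ⁅u, w⁆ := by rw [h, mul_inv_cancel_right]
  let φ : S →* S :=
    { toFun := fun w => ⁅x, w⁆
      map_one' := commutatorElement_one_right x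
      map_mul' := hmul x }
  haveI : φ.range.Normal := ⟨fun n hn g => by
    obtain ⟨w, rfl⟩ := hn
    have h := Subgroup.mem_center_iff.1 (hc x w) g
    show g * ⁅x, w⁆ * g⁻¹ ∈ φ.range
    rw [h, mul_inv_cancel_right]
    exact ⟨w, rfl⟩⟩
  let N : Subgroup S :=
    (Subgroup.center (S ⧸ φ.range)).comap (QuotientGroup.mk' φ.range)
  have hmem : ∀ u : S, u ∈ N ↔ ∀ v : S, ⁅u, v⁆ ∈ φ.range := by
    intro u
    rw [Subgroup.mem_comap, Subgroup.mem_center_iff,
      (QuotientGroup.mk'_surjective φ.range).forall]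
    refine forall_congr' fun v => ?_
    rw [← QuotientGroup.eq_one_iff, ← QuotientGroup.mk'_apply, map_commutatorElement,
      commutatorElement_eq_one_iff_mul_comm]
    exact eq_comm
  have hNtop : N = ⊤ := by
    by_contra h
    refine hx (D.frattini_le_center hS (D.le_frattini_of_invariant hS h ?_
      ((hmem x).2 fun v => ⟨v, rfl⟩)))
    intro u hu
    rw [hmem] at hu ⊢
    intro v
    obtain ⟨w, hw⟩ := hu (D.α.symm v)
    refine ⟨w, ?_⟩
    have h1 : D.α ⁅x, w⁆ = ⁅x, w⁆ := D.fix_frattini hS (by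
      simp only [frattini, Order.radical, Subgroup.mem_iInf]
      exact fun M hM => CfsgLib.PGroup.commutator_le_of_isCoatom hS hM
        (Subgroup.commutator_mem_commutator (Subgroup.mem_top x) (Subgroup.mem_top w)))
    calc φ w = D.α ⁅x, w⁆ := h1.symm
      _ = D.α ⁅u, D.α.symm v⁆ := congrArg D.α hw
      _ = ⁅D.α u, v⁆ := by rw [map_commutatorElement, MulEquiv.apply_symm_apply]
  obtain ⟨w, hw⟩ := (hmem y).1 (hNtop ▸ Subgroup.mem_top y) z
  exact ⟨w, hw⟩

theorem q_ne_two (hna : Subgroup.center S ≠ ⊤) : D.q ≠ 2 := by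
  intro hq2
  obtain ⟨x, -, hx⟩ := SetLike.exists_of_lt (lt_top_iff_ne_top.2 hna)
  rw [D.center_eq hS hna] at hx
  have hα2 : D.α (D.α x) = x := by
    have h := D.pow_eq
    rw [hq2, pow_two] at h
    exact DFunLike.congr_fun h x
  have hxαx : x * D.α x ∈ frattini S := by
    refine D.mem_frattini_of_move hS ?_
    rw [map_mul, hα2]
    have h : ⁅D.α x, x⁆ ∈ frattini S := (D.center_eq hS hna).le (D.commutator_mem_center hS _ _)
    simpa [commutatorElement_def, mul_assoc] using h
  set L := Subgroup.closure ({x} ∪ (frattini S : Set S)) with hL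
  have hxL : x ∈ L := Subgroup.subset_closure (Or.inl rfl)
  have hLi : ∀ y ∈ L, D.α y ∈ L := fun y hy => D.map_closure_le (fun z hz => by
    rcases hz with rfl | hz
    · have := mul_mem (inv_mem hxL) (Subgroup.subset_closure (Or.inr hxαx) : z * D.α z ∈ L)
      rwa [inv_mul_cancel_left] at this
    · exact Subgroup.subset_closure (Or.inr (D.map_frattini hz))) hy
  by_cases hLtop : L = ⊤
  · refine hx ((D.center_eq hS hna).le (Subgroup.mem_center_iff.2 fun y => ?_))
    have hle : L ≤ Subgroup.centralizer ({x} : Set S) := by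
      rw [hL, Subgroup.closure_le]
      rintro z (rfl | hz)
      · exact Subgroup.mem_centralizer_singleton_iff.2 rfl
      · exact Subgroup.mem_centralizer_singleton_iff.2
          ((Subgroup.mem_center_iff.1 (D.frattini_le_center hS hz) x).symm)
    exact Subgroup.mem_centralizer_singleton_iff.1 (hle (hLtop ▸ Subgroup.mem_top y))
  · exact hx (D.le_frattini_of_invariant hS hLtop hLi hxL)

theorem q_dvd_sq_sub_one (hidx : (Subgroup.center S).index = p ^ 2) : D.q ∣ p ^ 2 - 1 := by
  classical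
  haveI := Fact.mk D.hq
  have hna : Subgroup.center S ≠ ⊤ := fun h => by
    rw [h, Subgroup.index_top] at hidx
    exact absurd hidx.symm (Nat.one_lt_pow two_ne_zero hp.out.one_lt).ne'
  rw [D.center_eq hS hna] at hidx
  set Φ := frattini S with hΦdef
  have hmap : Φ.map (D.α : S →* S) = Φ :=
    Subgroup.characteristic_iff_map_eq.1 (inferInstance : (frattini S).Characteristic) D.α
  let e : S ⧸ Φ ≃* S ⧸ Φ := QuotientGroup.congr Φ Φ D.α hmap
  have he : ∀ y : S, e (QuotientGroup.mk y) = QuotientGroup.mk (D.α y) := fun y => rfl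
  let σ : Equiv.Perm (S ⧸ Φ) := e.toEquiv
  have hσpow : ∀ (n : ℕ) (y : S), (σ ^ n) (QuotientGroup.mk y) = QuotientGroup.mk ((D.α ^ n) y) := by
    intro n
    induction n with
    | zero => intro y; simp
    | succ n ih => intro y; rw [pow_succ', Equiv.Perm.mul_apply, ih, pow_succ', MulAut.mul_apply]; rfl
  have hσ : σ ^ D.q ^ 1 = 1 := by
    ext z
    obtain ⟨y, rfl⟩ := QuotientGroup.mk_surjective z
    rw [pow_one, hσpow, D.pow_eq]; rfl
  haveI : Fintype (S ⧸ Φ) := Fintype.ofFinite _
  have hone : ∀ T : Finset (S ⧸ Φ), (∀ z, z ∈ T ↔ σ z = z) → T.card = 1 := by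
    intro T hT
    refine Finset.card_eq_one.2 ⟨1, Finset.eq_singleton_iff_unique_mem.2 ⟨(hT 1).2 (map_one e), ?_⟩⟩
    intro z hz
    rw [hT] at hz
    obtain ⟨y, rfl⟩ := QuotientGroup.mk_surjective z
    refine (QuotientGroup.eq_one_iff y).2 (D.mem_frattini_of_move hS ?_)
    have : (QuotientGroup.mk (D.α y) : S ⧸ Φ) = QuotientGroup.mk y := hz
    rw [QuotientGroup.eq] at this
    have h := (inferInstance : Φ.Normal).conj_mem _ (inv_mem this) y
    simpa [mul_assoc] using h
  have h := Equiv.Perm.card_compl_support_modEq hσ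
  rw [hone _ fun z => by rw [Finset.mem_compl, Equiv.Perm.notMem_support], Fintype.card_eq_nat_card,
    ← Subgroup.index_eq_card, hidx] at h
  exact (Nat.modEq_iff_dvd' (Nat.one_le_pow _ _ hp.out.pos)).1 h

theorem ne_three (hidx : (Subgroup.center S).index = p ^ 2) : p ≠ 3 := by
  intro h3
  have hna : Subgroup.center S ≠ ⊤ := fun h => by
    rw [h, Subgroup.index_top] at hidx
    exact absurd hidx.symm (Nat.one_lt_pow two_ne_zero hp.out.one_lt).ne'
  have h := D.q_dvd_sq_sub_one hS hidx
  subst h3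
  have h8 : D.q ∣ 2 ^ 3 := h
  exact D.q_ne_two hS hna ((Nat.prime_dvd_prime_iff_eq D.hq Nat.prime_two).1 (D.hq.dvd_of_dvd_pow h8))

/-- For `p = 2` and centre of index four, commutators lie among squares of every overgroup of the
centre. -/
theorem commutator_mem_squares (h2 : p = 2) (hidx : (Subgroup.center S).index = p ^ 2)
    (M : Subgroup S) (hM : Subgroup.center S ≤ M) {r : S} (hr : r ∈ M)
    (hrc : r ∉ Subgroup.center S) (y : S) :
    ⁅r, y⁆ ∈ Subgroup.closure {v : S | ∃ m ∈ M, m ^ 2 = v} := by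
  subst h2
  classical
  have hna : Subgroup.center S ≠ ⊤ := fun h => by
    rw [h, Subgroup.index_top] at hidx; norm_num at hidx
  have hZΦ := D.center_eq hS hna
  have hq3 : D.q = 3 := by
    have h := D.q_dvd_sq_sub_one hS hidx
    exact (Nat.prime_dvd_prime_iff_eq D.hq Nat.prime_three).1 (by simpa using h)
  set Z := Subgroup.center S with hZ
  set s := D.α r with hs
  set t := D.α s with ht
  have hα3 : D.α t = r := by
    have h := D.pow_eq
    rw [hq3, pow_succ', pow_two] at h
    exact DFunLike.congr_fun h r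
  have hmove : ∀ u : S, u ∉ Z → (QuotientGroup.mk (D.α u) : S ⧸ Z) ≠ QuotientGroup.mk u := by
    intro u hu he
    refine hu ((D.frattini_le_center hS) (D.mem_frattini_of_move hS ?_))
    rw [QuotientGroup.eq] at he
    have h := (inferInstance : Z.Normal).conj_mem _ (inv_mem he) u
    rw [← hZΦ]
    simpa [mul_assoc] using h
  have hαZ : ∀ u : S, u ∉ Z → D.α u ∉ Z := by
    intro u hu h
    refine hu ?_
    rw [hZΦ] at h ⊢
    have h' := D.fix_frattini hS h
    rw [D.α.injective.eq_iff] at h'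
    rwa [h'] at h
  have hsZ : s ∉ Z := hαZ r hrc
  have htZ : t ∉ Z := hαZ s hsZ
  have h1 : ∀ u : S, u ∉ Z → (QuotientGroup.mk u : S ⧸ Z) ≠ 1 := fun u hu h =>
    hu ((QuotientGroup.eq_one_iff u).1 h)
  have hsr := hmove r hrc
  have hts := hmove s hsZ
  have hrt := hmove t htZ
  rw [hα3] at hrt
  have hcard : Nat.card (S ⧸ Z) = 4 := by rw [← Subgroup.index_eq_card, hidx]; norm_num
  haveI : Fintype (S ⧸ Z) := Fintype.ofFinite _
  have hall : ∀ z : S ⧸ Z, z = 1 ∨ z = QuotientGroup.mk r ∨ z = QuotientGroup.mk s ∨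
      z = QuotientGroup.mk t := by
    intro z
    by_contra hz
    push Not at hz
    have h5 : ({z, 1, QuotientGroup.mk r, QuotientGroup.mk s, QuotientGroup.mk t} :
        Finset (S ⧸ Z)).card = 5 := by
      rw [Finset.card_insert_of_notMem, Finset.card_insert_of_notMem, Finset.card_insert_of_notMem,
        Finset.card_pair (Ne.symm hts)]
      · simp only [Finset.mem_insert, Finset.mem_singleton]
        push Not
        exact ⟨Ne.symm hsr, hrt⟩
      · simp only [Finset.mem_insert, Finset.mem_singleton]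
        push Not
        exact ⟨Ne.symm (h1 r hrc), Ne.symm (h1 s hsZ), Ne.symm (h1 t htZ)⟩
      · simp only [Finset.mem_insert, Finset.mem_singleton]
        push Not
        exact ⟨hz.1, hz.2.1, hz.2.2.1, hz.2.2.2⟩
    have := Finset.card_le_univ ({z, 1, QuotientGroup.mk r, QuotientGroup.mk s, QuotientGroup.mk t} :
        Finset (S ⧸ Z))
    rw [h5, Fintype.card_eq_nat_card, hcard] at this
    omega
  have hr2 : r ^ 2 ∈ Z := D.pow_mem_center hS r
  have hs2 : s ^ 2 = r ^ 2 := by
    rw [hs, ← map_pow]; exact D.fix_frattini hS (hZΦ.le hr2)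
  have ht2 : t ^ 2 = r ^ 2 := by
    rw [ht, ← map_pow, hs2]; exact D.fix_frattini hS (hZΦ.le hr2)
  have hrst : (QuotientGroup.mk (r * s) : S ⧸ Z) = QuotientGroup.mk t := by
    rw [QuotientGroup.mk_mul]
    rcases hall ((QuotientGroup.mk r : S ⧸ Z) * QuotientGroup.mk s) with h | h | h | h
    · exfalso
      refine hsr ?_
      have h' : (QuotientGroup.mk r : S ⧸ Z) * QuotientGroup.mk r = 1 := by
        rw [← QuotientGroup.mk_mul, ← pow_two]; exact (QuotientGroup.eq_one_iff _).2 hr2
      exact mul_left_cancel (h.trans h'.symm)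
    · exact absurd (mul_eq_left.1 h) (h1 s hsZ)
    · exact absurd (mul_eq_right.1 h) (h1 r hrc)
    · exact h
  obtain ⟨c, hc, hct⟩ : ∃ c ∈ Z, t = r * s * c :=
    ⟨(r * s)⁻¹ * t, QuotientGroup.eq.1 hrst, (mul_inv_cancel_left _ _).symm⟩
  set z := ⁅r, s⁆ with hz
  have hzc : z ∈ Z := D.commutator_mem_center hS r s
  have hrs : r * s * (r * s) = z⁻¹ * (r * r * (s * s)) := by
    have h1 : s * r = z⁻¹ * (r * s) := by rw [hz, commutatorElement_def]; group
    calc r * s * (r * s) = r * (s * r) * s := by simp only [mul_assoc]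
      _ = r * (z⁻¹ * (r * s)) * s := by rw [h1]
      _ = z⁻¹ * (r * r * (s * s)) := by
        rw [← mul_assoc r z⁻¹, Subgroup.mem_center_iff.1 (inv_mem hzc) r]; simp only [mul_assoc]
  have hkey : z = (r * c) ^ 2 := by
    have h : t ^ 2 = z⁻¹ * (r ^ 2 * s ^ 2) * c ^ 2 := by
      rw [hct, (show Commute (r * s) c from Subgroup.mem_center_iff.1 hc (r * s)).mul_pow,
        pow_two (r * s), hrs, ← pow_two r, ← pow_two s]
    rw [ht2, hs2] at h
    rw [(show Commute r c from Subgroup.mem_center_iff.1 hc r).mul_pow]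
    have h' : r ^ 2 = z⁻¹ * r ^ 2 * (r ^ 2 * c ^ 2) := by
      calc r ^ 2 = z⁻¹ * (r ^ 2 * r ^ 2) * c ^ 2 := h
        _ = _ := by simp only [mul_assoc]
    have hcomm : z⁻¹ * r ^ 2 = r ^ 2 * z⁻¹ := (Subgroup.mem_center_iff.1 (inv_mem hzc) _).symm
    rw [hcomm, mul_assoc, left_eq_mul, inv_mul_eq_one] at h'
    exact h'
  have hzsq : z ∈ Subgroup.closure {v : S | ∃ m ∈ M, m ^ 2 = v} :=
    Subgroup.subset_closure ⟨r * c, mul_mem hr (hM hc), hkey.symm⟩
  have hmul : ∀ v w : S, ⁅r, v * w⁆ = ⁅r, v⁆ * ⁅r, w⁆ := fun v w => by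
    have h := Subgroup.mem_center_iff.1 (D.commutator_mem_center hS r w) v
    calc ⁅r, v * w⁆ = ⁅r, v⁆ * (v * ⁅r, w⁆ * v⁻¹) := by simp [commutatorElement_def, mul_assoc]
      _ = ⁅r, v⁆ * ⁅r, w⁆ := by rw [h, mul_inv_cancel_right]
  have hcz : ∀ d ∈ Z, ⁅r, d⁆ = 1 := fun d hd =>
    commutatorElement_eq_one_iff_mul_comm.2 (Subgroup.mem_center_iff.1 hd r)
  have hrr : ⁅r, r⁆ = 1 := commutatorElement_eq_one_iff_mul_comm.2 rfl
  have hrtz : ⁅r, t⁆ = z := by rw [hct, hmul, hmul, hrr, hcz c hc, one_mul, mul_one]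
  obtain ⟨g, hg, d, hd, rfl⟩ : ∃ g, (g = 1 ∨ g = r ∨ g = s ∨ g = t) ∧ ∃ d ∈ Z, y = g * d := by
    rcases hall (QuotientGroup.mk y) with h | h | h | h
    · exact ⟨1, Or.inl rfl, y, (QuotientGroup.eq_one_iff y).1 h, (one_mul y).symm⟩
    all_goals
      refine ⟨_, ?_, _, QuotientGroup.eq.1 h.symm, (mul_inv_cancel_left _ y).symm⟩
      simp
  rw [hmul, hcz d hd, mul_one]
  rcases hg with rfl | rfl | rfl | rfl
  · rw [commutatorElement_one_right]; exact one_mem _
  · rw [hrr]; exact one_mem _
  · exact hzsq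
  · rw [hrtz]; exact hzsq

end SchmidtAut

end CfsgLib.PLength85
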